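import Mathlib

set_option autoImplicit false
open scoped BigOperators TensorProduct

namespace Groth.Agent.Lib.Helper5.SepDeg

universe u

section General
variable (F C Ω : Type u) [Field F] [CommRing C] [Algebra F C] [Module.Finite F C]
  [Field Ω] [Algebra F Ω]

/-- the kernel of an algebra hom from a finite algebra to a field is maximal. -/
theorem ker_isMaximal (φ : C →ₐ[F] Ω) : (RingHom.ker (φ : C →+* Ω)).IsMaximal := by
  haveI : IsArtinianRing C := IsArtinianRing.of_finite F C
  haveI : (RingHom.ker (φ : C →+* Ω)).IsPrime := RingHom.ker_isPrime _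
  exact Ideal.IsPrime.isMaximal' inferInstance

/-- the map from pairs (maximal ideal, embedding of residue field) to homs. -/
noncomputable def Ψ : (Σ m : MaximalSpectrum C,
    (IsLocalRing.ResidueField (Localization.AtPrime m.asIdeal) →ₐ[F] Ω)) → (C →ₐ[F] Ω) :=
  fun p => p.2.comp (IsScalarTower.toAlgHom F C
    (IsLocalRing.ResidueField (Localization.AtPrime p.1.asIdeal)))

theorem Ψ_ker (p : Σ m : MaximalSpectrum C,
    (IsLocalRing.ResidueField (Localization.AtPrime m.asIdeal) →ₐ[F] Ω)) :
    RingHom.ker (Ψ F C Ω p : C →+* Ω) = p.1.asIdeal := by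
  ext x
  rw [RingHom.mem_ker]
  change p.2 (algebraMap C _ x) = 0 ↔ _
  rw [map_eq_zero_iff p.2 p.2.toRingHom.injective, ← RingHom.mem_ker]
  have := Ideal.ker_algebraMap_residueField p.1.asIdeal
  unfold Ideal.ResidueField at this
  rw [this]

theorem Ψ_bijective : Function.Bijective (Ψ F C Ω) := by
  constructor
  · rintro ⟨m, τ⟩ ⟨m', τ'⟩ h
    have hm : m = m' := by
      apply MaximalSpectrum.ext
      rw [← Ψ_ker F C Ω ⟨m, τ⟩, ← Ψ_ker F C Ω ⟨m', τ'⟩, h]
    subst hm
    congr 1
    apply AlgHom.ext
    intro y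
    obtain ⟨x, rfl⟩ := Ideal.algebraMap_residueField_surjective m.asIdeal y
    exact AlgHom.congr_fun h x
  · intro φ
    haveI hmax := ker_isMaximal F C Ω φ
    let m : MaximalSpectrum C := ⟨RingHom.ker (φ : C →+* Ω), hmax⟩
    let e : (C ⧸ m.asIdeal) ≃ₐ[F] IsLocalRing.ResidueField (Localization.AtPrime m.asIdeal) :=
      AlgEquiv.ofBijective (IsScalarTower.toAlgHom F (C ⧸ m.asIdeal)
        (IsLocalRing.ResidueField (Localization.AtPrime m.asIdeal)))
        (Ideal.bijective_algebraMap_quotient_residueField m.asIdeal)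
    let τ0 : (C ⧸ m.asIdeal) →ₐ[F] Ω := Ideal.Quotient.liftₐ m.asIdeal φ (fun a ha => ha)
    refine ⟨⟨m, τ0.comp e.symm.toAlgHom⟩, ?_⟩
    apply AlgHom.ext
    intro x
    change τ0 (e.symm (algebraMap C _ x)) = φ x
    have : algebraMap C (IsLocalRing.ResidueField (Localization.AtPrime m.asIdeal)) x =
        e (Ideal.Quotient.mk m.asIdeal x) := rfl
    rw [this, AlgEquiv.symm_apply_apply]
    rfl

theorem finite_residue (m : MaximalSpectrum C) :
    Module.Finite F (IsLocalRing.ResidueField (Localization.AtPrime m.asIdeal)) := by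
  haveI : Module.Finite C (IsLocalRing.ResidueField (Localization.AtPrime m.asIdeal)) :=
    inferInstanceAs (Module.Finite C m.asIdeal.ResidueField)
  exact Module.Finite.trans C _

theorem card_algHom_eq_finsum [IsAlgClosed Ω] :
    Nat.card (C →ₐ[F] Ω) = ∑ᶠ m : MaximalSpectrum C,
      Field.finSepDegree F (IsLocalRing.ResidueField (Localization.AtPrime m.asIdeal)) := by
  classical
  haveI : IsArtinianRing C := IsArtinianRing.of_finite F C
  haveI : Fintype (MaximalSpectrum C) := Fintype.ofFinite _
  haveI hfin : ∀ m : MaximalSpectrum C,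
      Module.Finite F (IsLocalRing.ResidueField (Localization.AtPrime m.asIdeal)) :=
    finite_residue F C
  haveI : ∀ m : MaximalSpectrum C,
      Fintype (IsLocalRing.ResidueField (Localization.AtPrime m.asIdeal) →ₐ[F] Ω) :=
    fun m => Fintype.ofFinite _
  rw [finsum_eq_sum_of_fintype, ← Nat.card_eq_of_bijective _ (Ψ_bijective F C Ω),
    ← Fintype.card_eq_nat_card, Fintype.card_sigma]
  refine Finset.sum_congr rfl fun m _ => ?_
  rw [Field.finSepDegree_eq_of_isAlgClosed F _ Ω, Fintype.card_eq_nat_card]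

end General

section LocalCase
variable (k A Ω : Type u) [Field k] [CommRing A] [Algebra k A] [Module.Finite k A] [IsLocalRing A]
  [Field Ω] [Algebra k Ω]

theorem card_algHom_local [IsAlgClosed Ω] :
    Nat.card (A →ₐ[k] Ω) = Field.finSepDegree k (IsLocalRing.ResidueField A) := by
  haveI : Module.Finite k (IsLocalRing.ResidueField A) :=
    Module.Finite.of_surjective (IsScalarTower.toAlgHom k A (IsLocalRing.ResidueField A)).toLinearMap
      IsLocalRing.residue_surjective
  rw [Field.finSepDegree_eq_of_isAlgClosed k _ Ω]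
  symm
  let Θ : (IsLocalRing.ResidueField A →ₐ[k] Ω) → (A →ₐ[k] Ω) :=
    fun τ => τ.comp (IsScalarTower.toAlgHom k A (IsLocalRing.ResidueField A))
  refine Nat.card_eq_of_bijective Θ ⟨?_, ?_⟩
  · intro τ τ' h
    apply AlgHom.ext
    intro y
    obtain ⟨x, rfl⟩ := IsLocalRing.residue_surjective y
    exact AlgHom.congr_fun h x
  · intro φ
    haveI hmax := ker_isMaximal k A Ω φ
    have hker : RingHom.ker (φ : A →+* Ω) = IsLocalRing.maximalIdeal A :=
      IsLocalRing.eq_maximalIdeal hmax
    let τ0 : (A ⧸ IsLocalRing.maximalIdeal A) →ₐ[k] Ω :=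
      Ideal.Quotient.liftₐ (IsLocalRing.maximalIdeal A) φ (fun a ha => by
        rw [← hker] at ha; exact ha)
    refine ⟨τ0, ?_⟩
    apply AlgHom.ext
    intro x
    rfl

end LocalCase

section Main
variable (k A k' : Type u) [Field k] [CommRing A] [Algebra k A]
    [Module.Finite k A] [IsLocalRing A] [Field k'] [Algebra k k']

theorem main :
    Field.finSepDegree k (IsLocalRing.ResidueField A) =
      ∑ᶠ m : MaximalSpectrum (k' ⊗[k] A),
        Field.finSepDegree k' (IsLocalRing.ResidueField (Localization.AtPrime m.asIdeal)) := by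
  rw [← card_algHom_local k A (AlgebraicClosure k'),
    ← card_algHom_eq_finsum k' (k' ⊗[k] A) (AlgebraicClosure k')]
  exact Nat.card_congr (AlgHom.liftEquiv k k' A (AlgebraicClosure k'))

end Main

end Groth.Agent.Lib.Helper5.SepDeg
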